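import Cfsg.Agent.H98.Comm

/-! Fixed spaces in quasi-primitive soluble linear groups. -/

set_option autoImplicit false
set_option linter.unusedSectionVars false
set_option linter.unusedVariables false
set_option linter.unusedSimpArgs false

namespace Cfsg.Agent.H99

open scoped MatrixGroups Matrix commutatorElement
open Cfsg.Geo Cfsg.Agent.H98

/-- A finite soluble group has a self-centralising normal subgroup of class at most two. -/
theorem exists_class_two_selfCent (G : Type*) [Group G] [Finite G] [Group.IsSolvable G] :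
    ∃ N : Subgroup G, N.Normal ∧ (∀ x ∈ N, ∀ y ∈ N, ∀ z ∈ N, Commute ⁅x, y⁆ z) ∧
      ∀ g, (∀ x ∈ N, Commute g x) → g ∈ N := by
  classical
  let S : Set (Subgroup G) := {N | N.Normal ∧ ∀ x ∈ N, ∀ y ∈ N, ∀ z ∈ N, Commute ⁅x, y⁆ z}
  have hS : S.Nonempty := ⟨⊥, inferInstance, fun x hx y hy z hz => by
    rw [Subgroup.mem_bot] at hz; subst hz; exact Commute.one_right _⟩
  obtain ⟨N, ⟨hN, hN2⟩, hmax⟩ := (Set.toFinite S).exists_maximal hS
  refine ⟨N, hN, hN2, fun g hg => ?_⟩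
  by_contra hgN
  let C : Subgroup G := Subgroup.centralizer (N : Set G)
  have hC : C.Normal := inferInstance
  obtain ⟨D, D0, Ds⟩ : ∃ D : ℕ → Subgroup G, D 0 = C ∧ ∀ k, D (k + 1) = ⁅D k, D k⁆ :=
    ⟨fun k => Nat.rec C (fun _ X => ⁅X, X⁆) k, rfl, fun k => rfl⟩
  have Dn : ∀ k, (D k).Normal := by
    intro k; induction k with
    | zero => rw [D0]; exact hC
    | succ k ih => rw [Ds]; haveI := ih; exact Subgroup.commutator_normal _ _
  have DC : ∀ k, D k ≤ C := by
    intro k; induction k with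
    | zero => exact D0.le
    | succ k ih =>
      rw [Ds]; haveI := Dn k
      exact (Subgroup.commutator_le_left _ _).trans ih
  have Dd : ∀ k, D k ≤ derivedSeries G k := by
    intro k; induction k with
    | zero => exact le_top
    | succ k ih => rw [Ds, derivedSeries_succ]; exact Subgroup.commutator_mono ih ih
  obtain ⟨k0, hk0⟩ := Group.IsSolvable.solvable (G := G)
  have hex : ∃ k, D k ≤ N := ⟨k0, (Dd k0).trans (by rw [hk0]; exact bot_le)⟩
  have h0 : Nat.find hex ≠ 0 := by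
    intro h
    have := Nat.find_spec hex
    rw [h, D0] at this
    exact hgN (this (Subgroup.mem_centralizer_iff.2 fun x hx => (hg x hx).symm.eq))
  obtain ⟨j, hj⟩ := Nat.exists_eq_succ_of_ne_zero h0
  have h1 : D (j + 1) ≤ N := by have := Nat.find_spec hex; rwa [hj] at this
  have h2 : ¬ D j ≤ N := Nat.find_min hex (by omega)
  haveI := Dn j
  have hcm : ∀ m ∈ D j, ∀ x ∈ N, Commute m x := fun m hm x hx =>
    (Subgroup.mem_centralizer_iff.1 (DC j hm) x hx).symm
  have hmem : D j ⊔ N ∈ S := by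
    refine ⟨inferInstance, fun x hx y hy z hz => ?_⟩
    have e : ∀ w ∈ D j ⊔ N, ∃ m ∈ D j, ∃ a ∈ N, m * a = w := fun w hw => by
      have : w ∈ ((D j ⊔ N : Subgroup G) : Set G) := hw
      rw [Subgroup.mul_normal] at this
      obtain ⟨m, hm, a, ha, h⟩ := this
      exact ⟨m, hm, a, ha, h⟩
    obtain ⟨m, hm, a, ha, rfl⟩ := e x hx
    obtain ⟨m', hm', a', ha', rfl⟩ := e y hy
    obtain ⟨m'', hm'', a'', ha'', rfl⟩ := e z hz
    have hmm : ⁅m, m'⁆ ∈ D (j + 1) := by rw [Ds]; exact Subgroup.commutator_mem_commutator hm hm'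
    have haa : ⁅a, a'⁆ ∈ N := by
      rw [commutatorElement_def]
      exact N.mul_mem (N.mul_mem (N.mul_mem ha ha') (N.inv_mem ha)) (N.inv_mem ha')
    have key : ⁅m * a, m' * a'⁆ = ⁅m, m'⁆ * ⁅a, a'⁆ := by
      have c1 := (hcm m' hm' a ha).eq
      have c2 := (hcm m⁻¹ ((D j).inv_mem hm) (a * a' * a⁻¹)
        (N.mul_mem (N.mul_mem ha ha') (N.inv_mem ha))).eq
      have c3 := (hcm m'⁻¹ ((D j).inv_mem hm') (a * a' * a⁻¹ * a'⁻¹)
        (N.mul_mem (N.mul_mem (N.mul_mem ha ha') (N.inv_mem ha)) (N.inv_mem ha'))).eq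
      simp only [commutatorElement_def, mul_inv_rev]
      calc m * a * (m' * a') * (a⁻¹ * m⁻¹) * (a'⁻¹ * m'⁻¹)
          = m * (a * m') * a' * a⁻¹ * m⁻¹ * a'⁻¹ * m'⁻¹ := by group
        _ = m * m' * ((a * a' * a⁻¹) * m⁻¹) * a'⁻¹ * m'⁻¹ := by rw [← c1]; group
        _ = m * m' * m⁻¹ * ((a * a' * a⁻¹ * a'⁻¹) * m'⁻¹) := by rw [← c2]; group
        _ = _ := by rw [← c3]; group
    rw [key]
    refine Commute.mul_left (Commute.mul_right ?_ ?_) (Commute.mul_right ?_ ?_)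
    · exact (hcm m'' hm'' _ (h1 hmm)).symm
    · exact (Subgroup.mem_centralizer_iff.1 (DC _ hmm) a'' ha'').symm
    · exact (hcm m'' hm'' _ haa).symm
    · exact hN2 a ha a' ha' a'' ha''
  exact h2 (le_sup_left.trans (hmax hmem le_sup_right))

variable {ι : Type} [Fintype ι] [DecidableEq ι] {F : Type*} [Field F]

/-- The fixed space of `g`. -/
abbrev fixSp (g : GL ι F) : Submodule F (ι → F) :=
  Module.End.eigenspace (Matrix.toLin' (g : Matrix ι ι F)) 1

theorem mem_fixSp {g : GL ι F} {v : ι → F} : v ∈ fixSp g ↔ (g : Matrix ι ι F) *ᵥ v = v := by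
  rw [Module.End.mem_eigenspace_iff]; simp

theorem fixSp_commutator (g x : GL ι F) :
    2 * Module.finrank F (fixSp g) ≤ Fintype.card ι + Module.finrank F (fixSp ⁅g, x⁆) := by
  have h1 := Submodule.finrank_sup_add_finrank_inf_eq (fixSp g)
    ((fixSp g).map (Matrix.toLin' (x : Matrix ι ι F)))
  rw [finrank_map_gl] at h1
  have h2 : Module.finrank F (fixSp g ⊔ (fixSp g).map (Matrix.toLin' (x : Matrix ι ι F)) :
      Submodule F (ι → F)) ≤ Fintype.card ι := by
    simpa using Submodule.finrank_le (fixSp g ⊔ (fixSp g).map (Matrix.toLin' (x : Matrix ι ι F)))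
  have h3 : (fixSp g ⊓ (fixSp g).map (Matrix.toLin' (x : Matrix ι ι F))) ≤ fixSp ⁅g, x⁆ := by
    rintro v ⟨hv, w, hw, rfl⟩
    have hv' := mem_fixSp.1 hv
    have hw' := mem_fixSp.1 hw
    rw [mem_fixSp]
    simp only [Matrix.toLin'_apply] at hv' ⊢
    have e1 : ((g⁻¹ : GL ι F) : Matrix ι ι F) *ᵥ w = w := by
      conv_lhs => rw [← hw']
      exact inv_mulVec_mulVec g w
    rw [commutatorElement_def]
    simp only [Units.val_mul, ← Matrix.mulVec_mulVec]
    rw [inv_mulVec_mulVec, e1, hv']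
  have h4 := Submodule.finrank_mono h3
  omega

/-- In a primitive irreducible group a non-trivial element of an abelian normal subgroup fixes
no non-zero vector. -/
theorem fixSp_eq_bot_of_ab [Finite F] {G A : Subgroup (GL ι F)} (hI : Irr G)
    (hprim : ∀ (m t : ℕ) (D : Fin t → Submodule F (ι → F)), 2 ≤ t → IsMDecomposition m D →
      ¬ G ≤ decompositionStabilizer D)
    (hn : NzG G A) (hc : ∀ x ∈ A, ∀ y ∈ A, x * y = y * x) {z : GL ι F} (hz : z ∈ A) (hz1 : z ≠ 1) :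
    fixSp z = ⊥ := by
  have hcomm : IsComm (grpAlg A) := by
    intro x hx y hy
    refine commute_grpAlg (fun g hg => ?_) hy
    refine (commute_grpAlg (fun g' hg' => ?_) hx).symm
    rw [← Units.val_mul, hc g hg g' hg', Units.val_mul]
  rcases isFld_or_two_le hI hcomm hn.nz_grpAlg with h | h
  · have hm : (z : Matrix ι ι F) - 1 ∈ grpAlg A := (grpAlg A).sub_mem (coe_mem_grpAlg hz) (grpAlg A).one_mem
    have h0 : (z : Matrix ι ι F) - 1 ≠ 0 := fun h0 => hz1 (Units.ext (by simpa [sub_eq_zero] using h0))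
    obtain ⟨y, hy, hxy⟩ := h _ hm h0
    rw [eq_bot_iff]
    intro v hv
    have hv' := mem_fixSp.1 hv
    rw [Submodule.mem_bot]
    have e : y * ((z : Matrix ι ι F) - 1) = 1 := by rw [hcomm y hy _ hm, hxy]
    calc v = (y * ((z : Matrix ι ι F) - 1)) *ᵥ v := by rw [e, Matrix.one_mulVec]
      _ = 0 := by rw [← Matrix.mulVec_mulVec, Matrix.sub_mulVec, hv', Matrix.one_mulVec, sub_self,
          Matrix.mulVec_zero]
  · obtain ⟨t, e, he, -, -⟩ := idemFam_primIdems hcomm hn.nz_grpAlg h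
    obtain ⟨m, hm⟩ := he.decomp hI
    exact absurd he.le_stab (hprim m t _ he.two_le hm)

theorem bound_abstract {G : Type*} [Group G] [Finite G] [Group.IsSolvable G] (d : G → ℕ) (n : ℕ)
    (h1 : ∀ g x, 2 * d g ≤ n + d ⁅g, x⁆)
    (h2 : ∀ A : Subgroup G, A.Normal → (∀ x ∈ A, ∀ y ∈ A, x * y = y * x) → ∀ z ∈ A, z ≠ 1 → d z = 0)
    {g : G} (hg1 : g ≠ 1) : 4 * d g ≤ 3 * n := by
  obtain ⟨N, hN, hN2, hNc⟩ := exists_class_two_selfCent G
  have hfix : ∀ z : G, z ∈ N → (∀ x ∈ N, Commute z x) → z ≠ 1 → d z = 0 := by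
    intro z hz hzc hz1
    refine h2 (N ⊓ Subgroup.centralizer (N : Set G)) inferInstance ?_ z
      ⟨hz, Subgroup.mem_centralizer_iff.2 fun x hx => (hzc x hx).symm.eq⟩ hz1
    intro x hx y hy
    exact Subgroup.mem_centralizer_iff.1 hy.2 x hx.1
  have hcN : ∀ a : G, ∀ x ∈ N, ⁅a, x⁆ ∈ N := fun a x hx => by
    rw [commutatorElement_def]
    exact N.mul_mem (hN.conj_mem x hx a) (N.inv_mem hx)
  by_cases c1 : ∀ x ∈ N, Commute g x
  · have := hfix g (hNc g c1) c1 hg1
    omega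
  push Not at c1
  obtain ⟨x, hx, hgx⟩ := c1
  have hh1 : ⁅g, x⁆ ≠ 1 := fun h => hgx (commutatorElement_eq_one_iff_commute.1 h)
  have b1 := h1 g x
  by_cases c2 : ∀ y ∈ N, Commute ⁅g, x⁆ y
  · have := hfix _ (hcN g x hx) c2 hh1
    omega
  push Not at c2
  obtain ⟨y, hy, hhy⟩ := c2
  have hk1 : ⁅⁅g, x⁆, y⁆ ≠ 1 := fun h => hhy (commutatorElement_eq_one_iff_commute.1 h)
  have b2 := h1 ⁅g, x⁆ y
  have := hfix _ (hcN _ y hy) (fun z hz => hN2 _ (hcN g x hx) y hy z hz) hk1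
  omega

theorem fixSp_bound_solvable [Finite F] {G : Subgroup (GL ι F)} (hsol : Group.IsSolvable G)
    (hI : Irr G)
    (hprim : ∀ (m t : ℕ) (D : Fin t → Submodule F (ι → F)), 2 ≤ t → IsMDecomposition m D →
      ¬ G ≤ decompositionStabilizer D)
    {g : GL ι F} (hg : g ∈ G) (hg1 : g ≠ 1) :
    4 * Module.finrank F (fixSp g) ≤ 3 * Fintype.card ι := by
  refine bound_abstract (G := G) (fun x => Module.finrank F (fixSp (x : GL ι F))) (Fintype.card ι)
    (fun g x => fixSp_commutator (g : GL ι F) (x : GL ι F)) ?_ (g := ⟨g, hg⟩)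
    (fun h => hg1 (congrArg Subtype.val h))
  intro A hA hc z hz hz1
  have : fixSp (z : GL ι F) = ⊥ := by
    refine fixSp_eq_bot_of_ab (A := A.map G.subtype) hI hprim ?_ ?_ ⟨z, hz, rfl⟩
      (fun h => hz1 (Subtype.ext h))
    · rintro h hh _ ⟨x, hx, rfl⟩
      exact ⟨_, hA.conj_mem x hx ⟨h, hh⟩, rfl⟩
    · rintro _ ⟨x, hx, rfl⟩ _ ⟨y, hy, rfl⟩
      exact congrArg Subtype.val (hc x hx y hy)
  show Module.finrank F (fixSp (z : GL ι F)) = 0
  rw [this, finrank_bot]

end Cfsg.Agent.H99
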