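import Cfsg.Agent.H99.FmOrd
import Cfsg.Agent.H52.Zsig

/-! The Singer group of a finite field extension. -/

set_option autoImplicit false
set_option linter.unusedSectionVars false
set_option linter.unusedVariables false

namespace Cfsg.Agent.H99

open Module Polynomial

theorem eq_one_of_pow_add_one {p f a : ℕ} (hp : 1 < p) (hf : 0 < f) (h : p ^ f + 1 = 2 ^ a) :
    f = 1 := by
  have h1 := Nat.one_lt_pow hf.ne' hp
  obtain ⟨a, rfl⟩ : ∃ b, a = b + 2 := by
    rcases a with _ | _ | a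
    exacts [by omega, by omega, ⟨a, rfl⟩]
  rw [pow_add] at h
  obtain ⟨k, rfl⟩ : Odd p := (Nat.odd_pow_iff hf.ne').1 ⟨2 ^ a * 2 - 1, by omega⟩
  have h2 : ∀ j, ∃ c, (2 * k + 1) ^ (2 * j) = 1 + 4 * (k + 1) * c := fun j => by
    induction j with
    | zero => exact ⟨0, by simp⟩
    | succ j ih =>
      obtain ⟨c, hc⟩ := ih
      exact ⟨c + k + 4 * (k + 1) * c * k, by rw [mul_add, pow_add, hc]; ring⟩
  obtain ⟨j, rfl | rfl⟩ := Nat.even_or_odd' f
  · obtain ⟨c, hc⟩ := h2 j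
    rw [hc, mul_assoc 4] at h
    omega
  · obtain ⟨c, hc⟩ := h2 j
    have h3 : 2 * (c * (2 * k + 1)) + 1 ∣ 2 ^ (a + 2) := ⟨2 * (k + 1), by
      rw [pow_add, ← h, pow_succ, hc]; ring⟩
    have h4 := (Nat.Coprime.pow_right _ (Nat.coprime_two_right.2 (odd_two_mul_add_one _))).eq_one_of_dvd h3
    obtain rfl : c = 0 := by simpa using h4
    have := (Nat.pow_eq_one.1 (hc.trans (by simp))).resolve_left hp.ne'
    omega

theorem exists_ppd {q n : ℕ} (hq : IsPrimePow q) (hn : 2 ≤ n) (h1 : ¬ (n = 6 ∧ q = 2))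
    (h2 : ¬ (n = 2 ∧ q.Prime ∧ ∃ a : ℕ, q + 1 = 2 ^ a)) :
    ∃ r : ℕ, r.Prime ∧ r ∣ q ^ n - 1 ∧ orderOf (q : ZMod r) = n := by
  have h0 := hq.two_le
  obtain ⟨r, r1, r2, r3⟩ : ∃ r : ℕ, r.Prime ∧ r ∣ q ^ n - 1 ∧
      ∀ k : ℕ, 1 ≤ k → k < n → ¬ r ∣ q ^ k - 1 := by
    rcases hn.eq_or_lt with rfl | hn
    swap
    · exact H52.Zsig.zsigmondy h0 hn fun h => h1 h.symm
    obtain ⟨r, r1, r2, r3⟩ : ∃ r : ℕ, r.Prime ∧ r ∣ q + 1 ∧ r ≠ 2 := by
      by_contra! h
      obtain ⟨p, f, p1, p2, rfl⟩ := (isPrimePow_nat_iff q).1 hq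
      have := Nat.eq_prime_pow_of_unique_prime_dvd (by omega) fun {d} => h d
      exact h2 ⟨rfl, by rwa [eq_one_of_pow_add_one p1.one_lt p2 this, pow_one], _, this⟩
    refine ⟨r, r1, (r2.mul_right (q - 1)).trans (by simp [← Nat.sq_sub_sq]), fun k k1 k2 h => r3 ((Nat.prime_dvd_prime_iff_eq r1 Nat.prime_two).1 ?_)⟩
    rw [show k = 1 by omega, pow_one] at h
    simpa [show q + 1 - (q - 1) = 2 by omega] using Nat.dvd_sub r2 h
  have key : ∀ k, r ∣ q ^ k - 1 ↔ (q : ZMod r) ^ k = 1 := fun k => by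
    rw [← ZMod.natCast_eq_zero_iff, Nat.cast_sub (Nat.one_le_pow _ _ (by omega)), sub_eq_zero,
      Nat.cast_pow, Nat.cast_one]
  exact ⟨r, r1, r2, (orderOf_eq_iff (by omega)).2 ⟨(key n).1 r2, fun k k1 k2 e =>
    r3 k k2 k1 ((key k).2 e)⟩⟩

variable {F K : Type*} [Field F] [Field K] [Algebra F K]

variable (F K) in
/-- the Singer group -/
abbrev SM : Subgroup (End F K)ˣ :=
  (Units.map ((Algebra.lmul F K : K →ₐ[F] End F K) : K →* End F K)).range

theorem mem_SM {g : (End F K)ˣ} : g ∈ SM F K ↔ ∃ c, ∀ x, g.1 x = c * x := by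
  refine ⟨fun ⟨c, e⟩ => ⟨c, fun x => e ▸ rfl⟩, fun ⟨c, h⟩ => ⟨Units.mk0 c fun e => ?_,
    Units.ext (LinearMap.ext fun x => (h x).symm)⟩⟩
  have := LinearMap.congr_fun g.mul_inv 1
  rw [End.mul_apply, h, e, zero_mul] at this
  exact zero_ne_one this

theorem mem_SM_of_comm {g : (End F K)ˣ} (h : ∀ c x, g.1 (c * x) = c * g.1 x) : g ∈ SM F K :=
  mem_SM.2 ⟨g.1 1, fun x => by rw [mul_comm, ← h, mul_one]⟩

theorem card_SM [Fintype K] : Nat.card (SM F K) = Fintype.card K - 1 := by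
  classical
  rw [← Fintype.card_units, ← Nat.card_eq_fintype_card]
  exact (Nat.card_congr (MonoidHom.ofInjective (Units.map_injective
    (Algebra.lmul_injective (R := F)))).toEquiv).symm

theorem exists_conj_lmul [FiniteDimensional F K] {T : End F K} {a : K}
    (h : (minpoly F a).natDegree = finrank F K) {v : K} (hv : v ≠ 0)
    (h0 : aeval T (minpoly F a) v = 0) : (∀ x, ∃ f : F[X], aeval a f = x) ∧
      ∃ g : (End F K)ˣ, ∀ x, T (g.1 x) = g.1 (a * x) := by
  have hs : Function.Surjective (aeval a : F[X] →ₐ[F] K) := by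
    rw [← AlgHom.range_eq_top, ← Algebra.adjoin_singleton_eq_range_aeval,
      ← IntermediateField.adjoin_simple_toSubalgebra_of_isAlgebraic (.of_finite F a),
      (Field.primitive_element_iff_minpoly_natDegree_eq F a).2 h, IntermediateField.top_toSubalgebra]
  obtain ⟨s, e⟩ := (aeval a : F[X] →ₐ[F] K).toLinearMap.exists_rightInverse_of_surjective
    (LinearMap.range_eq_top.2 hs)
  let φ : End F K := LinearMap.applyₗ v ∘ₗ (aeval T).toLinearMap ∘ₗ s
  have hφ : ∀ f, φ (aeval a f) = aeval T f v := fun f => by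
    obtain ⟨c, hc⟩ := minpoly.dvd F a (p := s (aeval a f) - f) (by
      rw [map_sub, sub_eq_zero]; exact LinearMap.congr_fun e _)
    have := congrArg (fun P => aeval T P v) hc
    simp only [mul_comm (minpoly F a), map_sub, map_mul, LinearMap.sub_apply, End.mul_apply, h0,
      map_zero, sub_eq_zero] at this
    exact this
  have hi : Function.Injective φ := (injective_iff_map_eq_zero φ).2 fun x hx => by_contra fun h1 => by
    obtain ⟨f, rfl⟩ := hs x
    obtain ⟨f', hf'⟩ := hs (aeval a f)⁻¹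
    have := hφ (f' * f)
    rw [map_mul, hf', inv_mul_cancel₀ h1, map_mul, End.mul_apply, ← hφ f, hx, map_zero,
      ← map_one (aeval a : F[X] →ₐ[F] K), hφ] at this
    exact hv (by simpa using this)
  refine ⟨hs, ((End.isUnit_iff φ).2 ⟨hi, LinearMap.injective_iff_surjective.1 hi⟩).unit,
    fun x => ?_⟩
  obtain ⟨f, rfl⟩ := hs x
  have := hφ (X * f)
  rw [map_mul, aeval_X] at this
  simp [this, hφ]

end Cfsg.Agent.H99
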