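/-
PSU(3,2) on 9 points, and its quotient Q8 (generated with tools_h56/model.py, isocert.py).
-/
import Cfsg.Agent.H56.ClassModel
import Cfsg.Agent.H56.Fields
import Cfsg.Agent.H56.IsoK

set_option autoImplicit false

namespace Cfsg.Agent.H99.U32

open H14 H56

def VT : ℕ := nat_lit 0x11c54909d2114d
def R : BT := (.node (nat_lit 20) (.node (nat_lit 13) (.node (nat_lit 9) (.leaf (nat_lit 1)) (.leaf (nat_lit 4))) (.node (nat_lit 17) (.leaf (nat_lit 0)) (.leaf (nat_lit 8)))) (.node (nat_lit 36) (.node (nat_lit 33) (.leaf (nat_lit 6)) (.leaf (nat_lit 2))) (.node (nat_lit 49) (.leaf (nat_lit 5)) (.node (nat_lit 52) (.leaf (nat_lit 7)) (.leaf (nat_lit 3))))))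
def gs : List (ℕ × ℕ) := [(nat_lit 0x3759f, nat_lit 0x468075231), (nat_lit 0x1afbb, nat_lit 0x387056412)]
def gens : List ℕ := [nat_lit 0x468075231, nat_lit 0x387056412]
def certL0 : Lev := ⟨nat_lit 0, nat_lit 511, (.node (nat_lit 4) (.node (nat_lit 2) (.node (nat_lit 1) (.leaf (nat_lit 0x876543210)) (.leaf (nat_lit 0x647381205))) (.node (nat_lit 3) (.leaf (nat_lit 0x854216037)) (.leaf (nat_lit 0x784160253)))) (.node (nat_lit 6) (.node (nat_lit 5) (.leaf (nat_lit 0x546108732)) (.leaf (nat_lit 0x468075231))) (.node (nat_lit 7) (.leaf (nat_lit 0x180273645)) (.node (nat_lit 8) (.leaf (nat_lit 0x407238156)) (.leaf (nat_lit 0x78314652))))))⟩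
def certC0 : LevCert := ⟨certL0,
    [(nat_lit 5, nat_lit 0), (nat_lit 3, nat_lit 0), (nat_lit 4, nat_lit 1), (nat_lit 1, nat_lit 0), (nat_lit 8, nat_lit 1), (nat_lit 2, nat_lit 1), (nat_lit 6, nat_lit 0), (nat_lit 7, nat_lit 1)],
    [[nat_lit 0, nat_lit 2, nat_lit 2, nat_lit 0, nat_lit 0, nat_lit 0, nat_lit 2], [nat_lit 2, nat_lit 2, nat_lit 4, nat_lit 2, nat_lit 2, nat_lit 2, nat_lit 4, nat_lit 4]],
    [nat_lit 0x341265870, nat_lit 0x758631420]⟩
def certL1 : Lev := ⟨nat_lit 1, nat_lit 510, (.node (nat_lit 5) (.node (nat_lit 3) (.node (nat_lit 2) (.leaf (nat_lit 0x876543210)) (.leaf (nat_lit 0x685724130))) (.node (nat_lit 4) (.leaf (nat_lit 0x758631420)) (.leaf (nat_lit 0x567812340)))) (.node (nat_lit 7) (.node (nat_lit 6) (.leaf (nat_lit 0x423157680)) (.leaf (nat_lit 0x341265870))) (.node (nat_lit 8) (.leaf (nat_lit 0x214378560)) (.leaf (nat_lit 0x132486750)))))⟩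
def certC1 : LevCert := ⟨certL1,
    [(nat_lit 6, nat_lit 0), (nat_lit 3, nat_lit 1), (nat_lit 4, nat_lit 0), (nat_lit 5, nat_lit 1), (nat_lit 8, nat_lit 0), (nat_lit 7, nat_lit 0), (nat_lit 2, nat_lit 1)],
    [],
    []⟩
def cert : List LevCert := [certC0, certC1]
def certL : List Lev := [certL0, certL1]
/-- the numbering of the points -/
abbrev E : Enc (Fin 9) 9 4 16 := finEnc 9 4 16 rfl (by decide)
theorem ok : modelOK F4 3 9 4 16 VT R true gs cert 72 = true := by
  decide +kernel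

/-- the permutation group -/
abbrev K : Subgroup (Equiv.Perm (Fin 9)) := E.grp gens

theorem model {F : Type*} [Field F] [Fintype F] (hF : Fintype.card F = 4) (ι : TF F4 →+* F) :
    ∃ φ, IsModel E (suMu 3 F 2) (ptv ι (Equiv.refl _) E VT) true (Subgroup.center _) gens certL φ :=
  model_PSU ι E (r := 2) hF rfl (m := 3) (by decide) ok (by decide +kernel) (by decide +kernel)

theorem equiv {F : Type*} [Field F] [Fintype F] (hF : Fintype.card F = 4) : Nonempty (PSU 3 F 2 ≃* K) :=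
  let ⟨ι, _⟩ := exists_hom F4 hF; let ⟨_, h⟩ := model hF ι; h.equiv_quot

theorem chain : E.IsChain certL K := let ⟨_, h⟩ := model (TF.card F4) (RingHom.id _); h.chain

theorem card : Nat.card K = 72 := chain.card.trans (modelOK_card ok)

def qA : List ℕ := [nat_lit 0xd670d1, nat_lit 0x21afac]
def qB : List ℕ := [nat_lit 0x468075231, nat_lit 0x387056412]
def qS : List ℕ := [nat_lit 0xc7410f6a9693148700c41, nat_lit 0xb83d0d7312a08062398a4]
def qCertL0 : Lev := ⟨nat_lit 8, nat_lit 0x1ff00, (.node (nat_lit 12) (.node (nat_lit 10) (.node (nat_lit 9) (.leaf (nat_lit 0x107b9ac5a928398a418820)) (.leaf (nat_lit 0xe63d704a90d21cc510403))) (.node (nat_lit 11) (.leaf (nat_lit 0x106b1497216f21cc510403)) (.leaf (nat_lit 0xf8312e429ab290e608062)))) (.node (nat_lit 14) (.node (nat_lit 13) (.leaf (nat_lit 0xd6392883d6a1040331487)) (.leaf (nat_lit 0xc7410f6a9693148700c41))) (.node (nat_lit 15) (.leaf (nat_lit 0x98214f5b98d1040331487)) (.node (nat_lit 16)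 (.leaf (nat_lit 0xc43d4b825ae398a418820)) (.leaf (nat_lit 0x87c169639aa18820290e6))))))⟩
def qCertC0 : LevCert := ⟨qCertL0,
    [(nat_lit 13, nat_lit 0), (nat_lit 11, nat_lit 0), (nat_lit 12, nat_lit 1), (nat_lit 9, nat_lit 0), (nat_lit 16, nat_lit 1), (nat_lit 10, nat_lit 1), (nat_lit 14, nat_lit 0), (nat_lit 15, nat_lit 1)],
    [[nat_lit 0, nat_lit 0, nat_lit 0, nat_lit 2, nat_lit 2, nat_lit 2, nat_lit 0, nat_lit 2, nat_lit 2, nat_lit 2, nat_lit 2], [nat_lit 2, nat_lit 2, nat_lit 4, nat_lit 4, nat_lit 2, nat_lit 4, nat_lit 4]],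
    [nat_lit 0xa4b16f835c808062398a4, nat_lit 0xc52d2d7ba0821cc510403]⟩
def qCertL1 : Lev := ⟨nat_lit 9, nat_lit 0x1fe00, (.node (nat_lit 13) (.node (nat_lit 11) (.node (nat_lit 10) (.leaf (nat_lit 0x107b9ac5a928398a418820)) (.leaf (nat_lit 0xe835ea6256800c4121cc5))) (.node (nat_lit 12) (.leaf (nat_lit 0xf6c1cb4b1481040331487)) (.leaf (nat_lit 0xd73e0952d88290e608062)))) (.node (nat_lit 15) (.node (nat_lit 14) (.leaf (nat_lit 0xc52d2d7ba0821cc510403)) (.leaf (nat_lit 0xb6254e6c1e818820290e6))) (.node (nat_lit 16) (.leaf (nat_lit 0xa4b16f835c808062398a4)) (.leaf (nat_lit 0x95a99073da83148700c41)))))⟩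
def qCertC1 : LevCert := ⟨qCertL1,
    [(nat_lit 15, nat_lit 0), (nat_lit 13, nat_lit 1), (nat_lit 12, nat_lit 0), (nat_lit 11, nat_lit 1), (nat_lit 10, nat_lit 0), (nat_lit 14, nat_lit 0), (nat_lit 16, nat_lit 1)],
    [],
    []⟩
def qCert : List LevCert := [qCertC0, qCertC1]
def qCertL : List Lev := [qCertL0, qCertL1]
def qCertAL0 : Lev := ⟨nat_lit 0, nat_lit 255, (.node (nat_lit 4) (.node (nat_lit 2) (.node (nat_lit 1) (.leaf (nat_lit 0xfac688)) (.leaf (nat_lit 0x9f5443))) (.node (nat_lit 3) (.leaf (nat_lit 0xb3e21a)) (.leaf (nat_lit 0xd670d1)))) (.node (nat_lit 6) (.node (nat_lit 5) (.leaf (nat_lit 0x688b3e)) (.leaf (nat_lit 0x443d67))) (.node (nat_lit 7) (.leaf (nat_lit 0x21afac)) (.leaf (nat_lit 0xd19f5)))))⟩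
def qCertAC0 : LevCert := ⟨qCertAL0,
    [(nat_lit 3, nat_lit 0), (nat_lit 6, nat_lit 1), (nat_lit 2, nat_lit 0), (nat_lit 5, nat_lit 1), (nat_lit 7, nat_lit 0), (nat_lit 1, nat_lit 0), (nat_lit 4, nat_lit 1)],
    [],
    []⟩
def qCertA : List LevCert := [qCertAC0]
def qCertAL : List Lev := [qCertAL0]

/-- the numbering of `Q8` -/
def EQ : Enc (QuaternionGroup 2) 8 3 8 where
  ix g := match g with
    | .a i => i.val
    | .xa i => 4 + i.val
  pt n := if n < 4 then .a (n : ZMod (2 * 2)) else .xa (n : ZMod (2 * 2))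
  M_eq := rfl
  n_le := le_rfl
  ix_lt := by decide
  pt_ix := by decide
  ix_pt := by decide

theorem exists_surj : ∃ φ : K →* QuaternionGroup 2, Function.Surjective φ := by
  have hg : ∀ P ∈ qB, E.InG K P := inG_of_memOK chain (by decide +kernel)
  obtain ⟨φ, h, -⟩ := exists_surj_of_cert (E := EQ) (F := E) (N := 17) (k := 5) (M := 32)
    rfl rfl (by decide) K.subtype K.subtype_injective
    (MulAction.toPermHom (QuaternionGroup 2) (QuaternionGroup 2)) MulAction.toPerm_injective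
    (as := qA) (bs := qB) (cs := qS) (cert := qCert) (certA := qCertA)
    (by
      simp only [qA, List.forall_mem_cons]
      exact ⟨⟨QuaternionGroup.a 1, by decide +kernel⟩, ⟨QuaternionGroup.xa 0, by decide +kernel⟩, by simp⟩)
    (fun P hP => let ⟨g, hg, e⟩ := hg P hP; ⟨⟨g, hg⟩, e⟩) (by decide +kernel) (by decide +kernel)
    (by decide +kernel) (card.le.trans (by decide +kernel)) (by decide +kernel)
    (by rw [Nat.card_eq_fintype_card, QuaternionGroup.card]; decide +kernel)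
  exact ⟨φ, h⟩

theorem pow_twelve (g : K) : g ^ 12 = 1 := by
  have h := chain.forall_of_allElts (f := fun P => Nat.beq (powP 4 16 9 P 12) (idP 4 9))
    (by decide +kernel) g g.2
  apply Subtype.ext
  apply E.pk_injective
  rw [Subgroup.coe_pow, E.pk_pow, Subgroup.coe_one, E.pk_one]
  exact Nat.eq_of_beq_eq_true h

end Cfsg.Agent.H99.U32
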