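import Mathlib

set_option autoImplicit false

namespace Cfsg.Agent.H99

open Equiv

/-- maximality of `H` inside `M`, in element form -/
theorem isCoatom_subgroupOf_of {G : Type*} [Group G] {H M : Subgroup G} (hne : ¬ M ≤ H)
    (h : ∀ L : Subgroup G, H ⊓ M ≤ L → L ≤ M → ∀ g ∈ L, g ∉ H → M ≤ L) :
    IsCoatom (H.subgroupOf M) := by
  refine ⟨fun htop => hne (Subgroup.subgroupOf_eq_top.1 htop), fun L hL => ?_⟩
  obtain ⟨g, hgL, hgH⟩ := SetLike.exists_of_lt hL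
  have h1 : H ⊓ M ≤ L.map M.subtype := by
    rintro x ⟨hx1, hx2⟩
    exact ⟨⟨x, hx2⟩, hL.le hx1, rfl⟩
  have := h (L.map M.subtype) h1 (Subgroup.map_subtype_le _) g ⟨g, hgL, rfl⟩ hgH
  rw [eq_top_iff]
  intro x _
  obtain ⟨y, hy, hyx⟩ := this x.2
  rwa [← Subtype.ext hyx]

theorem not_isCoatom_subgroupOf_of {G : Type*} [Group G] {H M : Subgroup G} (L : Subgroup G)
    (h1 : H ⊓ M ≤ L) (h2 : ∃ g ∈ L, g ∈ M ∧ g ∉ H) (h3 : ¬ M ≤ L) :
    ¬ IsCoatom (H.subgroupOf M) := by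
  intro hc
  obtain ⟨g, hgL, hgM, hgH⟩ := h2
  have hlt : H.subgroupOf M < L.subgroupOf M := by
    refine lt_of_le_of_ne (fun x hx => h1 ⟨hx, x.2⟩) fun h => hgH ?_
    have : (⟨g, hgM⟩ : M) ∈ L.subgroupOf M := hgL
    rw [← h] at this
    exact this
  exact h3 (Subgroup.subgroupOf_eq_top.1 (hc.2 _ hlt))

theorem le_of_isCoatom_subgroupOf {G : Type*} [Group G] {H M : Subgroup G}
    (hc : IsCoatom (H.subgroupOf M)) (L : Subgroup G) (h1 : H ⊓ M ≤ L) {g : G} (hgL : g ∈ L)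
    (hgM : g ∈ M) (hgH : g ∉ H) : M ≤ L := by
  by_contra h3
  exact not_isCoatom_subgroupOf_of L h1 ⟨g, hgL, hgM, hgH⟩ h3 hc

/-- the stabiliser of the partition given by the fibres of `f` -/
def partStab {Ω β : Type*} (f : Ω → β) : Subgroup (Perm Ω) where
  carrier := {g | ∀ x y : Ω, f x = f y ↔ f (g x) = f (g y)}
  mul_mem' {a b} ha hb x y := (hb x y).trans (ha _ _)
  one_mem' _ _ := Iff.rfl
  inv_mem' {a} ha x y := by
    have := ha (a⁻¹ x) (a⁻¹ y)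
    simpa using this.symm

theorem closure_partStab {Ω β : Type*} (f : Ω → β) :
    Subgroup.closure {g : Perm Ω | ∀ x y : Ω, f x = f y ↔ f (g x) = f (g y)} = partStab f :=
  Subgroup.closure_eq (partStab f)

theorem mem_partStab {Ω β : Type*} {f : Ω → β} {g : Perm Ω} :
    g ∈ partStab f ↔ ∀ x y : Ω, f x = f y ↔ f (g x) = f (g y) := Iff.rfl

theorem swap_mem_partStab {Ω β : Type*} [DecidableEq Ω] {f : Ω → β} {u v : Ω} (h : f u = f v) :
    swap u v ∈ partStab f := by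
  have : ∀ x, f (swap u v x) = f x := by
    intro x
    rw [swap_apply_def]
    split_ifs with h1 h2
    · rw [h1, h]
    · rw [h2, h]
    · rfl
  intro x y
  rw [this, this]

theorem exists_equiv_prod {Ω : Type*} [Finite Ω] {a b : ℕ} (f : Ω → Fin b)
    (hf : ∀ i : Fin b, Nat.card {x : Ω // f x = i} = a) :
    ∃ e : Ω ≃ Fin b × Fin a, ∀ x, (e x).1 = f x := by
  have h : ∀ i : Fin b, Nonempty ({x : Ω // f x = i} ≃ Fin a) := fun i =>
    Finite.card_eq.1 (by rw [hf i]; simp)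
  refine ⟨(Equiv.sigmaFiberEquiv f).symm.trans ((Equiv.sigmaCongrRight fun i => (h i).some).trans
    (Equiv.sigmaEquivProd _ _)), fun x => rfl⟩

theorem exists_partStab_pair {Ω : Type*} [DecidableEq Ω] {a b : ℕ} {f : Ω → Fin b}
    (e : Ω ≃ Fin b × Fin a) (he : ∀ x, (e x).1 = f x) {x y x' y' : Ω} (hxy : x ≠ y) (hxy' : x' ≠ y')
    (h : f x = f y ↔ f x' = f y') : ∃ g ∈ partStab f, g x = x' ∧ g y = y' := by
  have : ∃ σ : Perm (Fin b), σ (f x) = f x' ∧ σ (f y) = f y' := by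
    by_cases h1 : f x = f y
    · exact ⟨swap (f x) (f x'), by simp, by rw [← h1, ← h.1 h1]; simp⟩
    · have h2 := (MulAction.is_two_pretransitive_iff (G := Perm (Fin b)) (α := Fin b)).1
        (Equiv.Perm.isMultiplyPretransitive _ _) h1 (fun h3 => h1 (h.2 h3))
      exact h2
  obtain ⟨σ, hσ1, hσ2⟩ := this
  let g₁ : Perm Ω := e.trans ((Equiv.prodCongr σ (Equiv.refl _)).trans e.symm)
  have hg₁ : ∀ z, f (g₁ z) = σ (f z) := by
    intro z
    rw [← he, ← he]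
    simp [g₁]
  have hg₁m : g₁ ∈ partStab f := by
    intro u v
    rw [hg₁, hg₁, σ.injective.eq_iff]
  have hs₁ : swap (g₁ x) x' ∈ partStab f := swap_mem_partStab (by rw [hg₁, hσ1])
  have hfs : ∀ z, f (swap (g₁ x) x' z) = f z := by
    intro z
    rw [swap_apply_def]
    split_ifs with h1 h2
    · rw [h1, hg₁, hσ1]
    · rw [h2, hg₁, hσ1]
    · rfl
  have hs₂ : swap (swap (g₁ x) x' (g₁ y)) y' ∈ partStab f :=
    swap_mem_partStab (by rw [hfs, hg₁, hσ2])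
  refine ⟨swap (swap (g₁ x) x' (g₁ y)) y' * swap (g₁ x) x' * g₁,
    mul_mem (mul_mem hs₂ hs₁) hg₁m, ?_, ?_⟩
  · simp only [Perm.mul_apply, swap_apply_left]
    refine swap_apply_of_ne_of_ne ?_ hxy'
    intro h1
    have : swap (g₁ x) x' (g₁ x) = swap (g₁ x) x' (g₁ y) := by rw [← h1]; simp
    exact hxy (g₁.injective ((swap _ _).injective this))
  · simp only [Perm.mul_apply, swap_apply_left]

/-- two further points in one block -/
theorem exists_pair_same_block {Ω : Type*} {a b : ℕ} {f : Ω → Fin b}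
    (e : Ω ≃ Fin b × Fin a) (he : ∀ x, (e x).1 = f x) (ha : 2 ≤ a) (hb : 2 ≤ b) (h4 : 3 ≤ a ∨ 3 ≤ b)
    (x y : Ω) : ∃ u v, u ≠ v ∧ f u = f v ∧ u ≠ x ∧ u ≠ y ∧ v ≠ x ∧ v ≠ y := by
  classical
  have hs : ∀ i j, f (e.symm (i, j)) = i := fun i j => by rw [← he]; simp
  by_cases hi : ∃ i : Fin b, i ≠ f x ∧ i ≠ f y
  · obtain ⟨i, h1, h2⟩ := hi
    refine ⟨e.symm (i, ⟨0, by omega⟩), e.symm (i, ⟨1, by omega⟩), by simp, by rw [hs, hs], ?_, ?_, ?_, ?_⟩
    all_goals intro h; first | exact h1 (by rw [← h, hs]) | exact h2 (by rw [← h, hs])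
  · push Not at hi
    have hb2 : b < 3 := by
      by_contra hb3
      have h0 := hi ⟨0, by omega⟩
      have h1 := hi ⟨1, by omega⟩
      have h2 := hi ⟨2, by omega⟩
      simp only [Fin.ext_iff, ne_eq] at h0 h1 h2
      omega
    have ha3 : 3 ≤ a := by omega
    have hne : f x ≠ f y := by
      intro h
      have h0 := hi ⟨0, by omega⟩
      have h1 := hi ⟨1, by omega⟩
      simp only [Fin.ext_iff, ne_eq] at h0 h1 h
      omega
    obtain ⟨j, k, hjk, hj, hk⟩ : ∃ j k : Fin a, j ≠ k ∧ j ≠ (e x).2 ∧ k ≠ (e x).2 := by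
      by_cases h0 : ((e x).2 : ℕ) = 0
      · exact ⟨⟨1, by omega⟩, ⟨2, by omega⟩, by simp, by simp [Fin.ext_iff, h0], by simp [Fin.ext_iff, h0]⟩
      · by_cases h1 : ((e x).2 : ℕ) = 1
        · exact ⟨⟨0, by omega⟩, ⟨2, by omega⟩, by simp, by simp [Fin.ext_iff, h1], by simp [Fin.ext_iff, h1]⟩
        · exact ⟨⟨0, by omega⟩, ⟨1, by omega⟩, by simp, by simp [Fin.ext_iff]; omega,
            by simp [Fin.ext_iff]; omega⟩
    refine ⟨e.symm (f x, j), e.symm (f x, k), by simpa using hjk, by rw [hs, hs], ?_, ?_, ?_, ?_⟩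
    · intro h; exact hj (by rw [← h]; simp)
    · intro h; exact hne (by rw [← h, hs])
    · intro h; exact hk (by rw [← h]; simp)
    · intro h; exact hne (by rw [← h, hs])

theorem exists_partStab_pair_even {Ω : Type*} [Fintype Ω] [DecidableEq Ω] {a b : ℕ} {f : Ω → Fin b}
    (e : Ω ≃ Fin b × Fin a) (he : ∀ x, (e x).1 = f x) (ha : 2 ≤ a) (hb : 2 ≤ b) (h4 : 3 ≤ a ∨ 3 ≤ b)
    {x y x' y' : Ω} (hxy : x ≠ y) (hxy' : x' ≠ y')
    (h : f x = f y ↔ f x' = f y') : ∃ g ∈ partStab f ⊓ alternatingGroup Ω, g x = x' ∧ g y = y' := by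
  obtain ⟨g, hg, h1, h2⟩ := exists_partStab_pair e he hxy hxy' h
  rcases Int.units_eq_one_or (Perm.sign g) with hs | hs
  · exact ⟨g, ⟨hg, Perm.mem_alternatingGroup.2 hs⟩, h1, h2⟩
  · obtain ⟨u, v, huv, hf, h3, h4, h5, h6⟩ := exists_pair_same_block e he ha hb h4 x' y'
    refine ⟨swap u v * g, ⟨mul_mem (swap_mem_partStab hf) hg, Perm.mem_alternatingGroup.2 ?_⟩, ?_, ?_⟩
    · rw [map_mul, hs, Perm.sign_swap huv]; rfl
    · rw [Perm.mul_apply, h1, swap_apply_of_ne_of_ne h3.symm h5.symm]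
    · rw [Perm.mul_apply, h2, swap_apply_of_ne_of_ne h4.symm h6.symm]

/-- a group that is transitive on both kinds of pairs and does not preserve the partition is 2-transitive -/
theorem two_trans_of_not_partStab {Ω β : Type*} {f : Ω → β} (L : Subgroup (Perm Ω))
    (hL : ∀ x y x' y' : Ω, x ≠ y → x' ≠ y' → (f x = f y ↔ f x' = f y') → ∃ g ∈ L, g x = x' ∧ g y = y')
    {g : Perm Ω} (hg : g ∈ L) (hgf : g ∉ partStab f) :
    ∀ x y x' y' : Ω, x ≠ y → x' ≠ y' → ∃ g ∈ L, g x = x' ∧ g y = y' := by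
  have key : ∃ k ∈ L, ∃ u v, u ≠ v ∧ f u = f v ∧ f (k u) ≠ f (k v) := by
    rw [mem_partStab] at hgf
    push Not at hgf
    obtain ⟨u, v, h | h⟩ := hgf
    · exact ⟨g, hg, u, v, fun h1 => h.2 (by rw [h1]), h.1, h.2⟩
    · exact ⟨g⁻¹, inv_mem hg, g u, g v, fun h1 => h.1 (by rw [g.injective h1]), h.2, by simpa using h.1⟩
  obtain ⟨k, hk, u, v, huv, h1, h2⟩ := key
  have key2 : ∀ x y x' y' : Ω, x ≠ y → x' ≠ y' → f x = f y → f x' ≠ f y' →
      ∃ g ∈ L, g x = x' ∧ g y = y' := by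
    intro x y x' y' hxy hxy' h3 h4
    obtain ⟨g1, hg1, h5, h6⟩ := hL x y u v hxy huv (by simp [h1, h3])
    obtain ⟨g2, hg2, h7, h8⟩ := hL (k u) (k v) x' y' (fun h => huv (k.injective h)) hxy' (by simp [h2, h4])
    exact ⟨g2 * k * g1, mul_mem (mul_mem hg2 hk) hg1, by simp [h5, h7], by simp [h6, h8]⟩
  intro x y x' y' hxy hxy'
  by_cases h3 : f x = f y <;> by_cases h4 : f x' = f y'
  · exact hL x y x' y' hxy hxy' (by simp [h3, h4])
  · exact key2 x y x' y' hxy hxy' h3 h4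
  · obtain ⟨g1, hg1, h5, h6⟩ := key2 x' y' x y hxy' hxy h4 h3
    exact ⟨g1⁻¹, inv_mem hg1, by rw [← h5]; simp, by rw [← h6]; simp⟩
  · exact hL x y x' y' hxy hxy' (by simp [h3, h4])

theorem isPreprimitive_of_two_trans {Ω : Type*} (L : Subgroup (Perm Ω))
    (h : ∀ x y x' y' : Ω, x ≠ y → x' ≠ y' → ∃ g ∈ L, g x = x' ∧ g y = y') :
    MulAction.IsPreprimitive L Ω := by
  apply MulAction.isPreprimitive_of_is_two_pretransitive
  rw [MulAction.is_two_pretransitive_iff]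
  intro a b c d h1 h2
  obtain ⟨g, hg, h3, h4⟩ := h a b c d h1 h2
  exact ⟨⟨g, hg⟩, h3, h4⟩

end Cfsg.Agent.H99
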